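import Mathlib
import Cfsg.Prelude.Def_Local
import Cfsg.Prelude.Def_CaseTheorems
import Cfsg.Agent.FT.Base
import Cfsg.Agent.Cop.Basic
import Cfsg.Agent.H4.Final
import Cfsg.Agent.H4.ZStar
import Cfsg.Agent.H17.Basic
import Cfsg.Agent.H30.ElemAb
import Cfsg.Agent.H49.Core
import Cfsg.Agent.H49.RankOne
import Cfsg.Agent.H91.SolvPCore
import Cfsg.Agent.Solv.Core
import Cfsg.Agent.Bal.PQ
import Cfsg.Agent.Supersolvable.Structure
import Cfsg.Agent.H11.Act

/-!
# Nonsolvable groups in which distinct Sylow 2-subgroups have cyclic intersection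
-/

set_option autoImplicit false

namespace Cfsg.Agent.H31.CycInt

open Subgroup
open scoped Pointwise

/-- Distinct Sylow 2-subgroups intersect in cyclic groups. -/
def CInt (G : Type*) [Group G] : Prop :=
  ∀ S T : Sylow 2 G, S ≠ T → IsCyclic ↥((S : Subgroup G) ⊓ (T : Subgroup G))

section Cyc

variable {G : Type*} [Group G] [Finite G]

theorem mem_of_pow_card {D R : Subgroup G} (hD : IsCyclic D) (hRD : R ≤ D) {w : G} (hw : w ∈ D)
    (hwR : w ^ Nat.card R = 1) : w ∈ R := by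
  classical
  have := Fintype.ofFinite D
  have h1 := IsCyclic.card_pow_eq_one_le (α := D) (n := Nat.card R) Nat.card_pos
  set S : Set D := {a : D | a ^ Nat.card R = 1} with hS
  have h2 : S.ncard ≤ Nat.card R := by
    rw [Set.ncard_eq_toFinset_card']
    convert h1 using 2
    ext a
    simp [hS]
  have h3 : ((R.subgroupOf D : Subgroup D) : Set D) ⊆ S := by
    intro a ha
    have h4 : (a : G) ∈ R := Subgroup.mem_subgroupOf.1 ha
    have h5 := pow_card_eq_one' (x := (⟨(a : G), h4⟩ : R))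
    have h6 : (a : G) ^ Nat.card R = 1 := by
      have := congrArg (R.subtype) h5
      rwa [map_pow, map_one] at this
    exact Subtype.ext (by simpa using h6)
  have h4 : S.ncard ≤ ((R.subgroupOf D : Subgroup D) : Set D).ncard := by
    rw [← Nat.card_coe_set_eq (s := ((R.subgroupOf D : Subgroup D) : Set D))]
    have h5 : Nat.card ↥(R.subgroupOf D) = Nat.card R := Nat.card_congr (Subgroup.subgroupOfEquivOfLe hRD).toEquiv
    exact h2.trans_eq h5.symm
  have h5 := Set.eq_of_subset_of_ncard_le h3 h4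
  have h6 : (⟨w, hw⟩ : D) ∈ S := Subtype.ext (by simpa using hwR)
  rw [← h5] at h6
  exact Subgroup.mem_subgroupOf.1 h6

omit [Finite G] in
theorem comm_of_cyclic {D : Subgroup G} (hD : IsCyclic D) {a b : G} (ha : a ∈ D) (hb : b ∈ D) :
    a * b = b * a := by
  have := hD.isMulCommutative
  exact H30.mul_comm_of_isMulCommutative this ha hb

omit [Finite G] in
theorem isCyclic_of_le {D R : Subgroup G} (hD : IsCyclic D) (hRD : R ≤ D) : IsCyclic R :=
  isCyclic_of_injective (Subgroup.inclusion hRD) (Subgroup.inclusion_injective hRD)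

omit [Finite G] in
theorem isPGroup_zp {x : G} {k : ℕ} (h : x ^ 2 ^ k = 1) : IsPGroup 2 ↥(Subgroup.zpowers x) := by
  rintro ⟨y, hy⟩
  obtain ⟨m, rfl⟩ := Subgroup.mem_zpowers_iff.1 hy
  refine ⟨k, Subtype.ext ?_⟩
  change (x ^ m) ^ 2 ^ k = 1
  rw [← zpow_natCast, ← zpow_mul, mul_comm, zpow_mul, zpow_natCast, h, one_zpow]

omit [Finite G] in
theorem exists_pow_of_mem {S : Subgroup G} (hS : IsPGroup 2 S) {x : G} (hx : x ∈ S) :
    ∃ k, x ^ 2 ^ k = 1 := by
  obtain ⟨k, hk⟩ := hS ⟨x, hx⟩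
  refine ⟨k, ?_⟩
  have := congrArg (S.subtype) hk
  rwa [map_pow, map_one] at this

end Cyc

section Two

variable {G : Type*} [Group G] [Finite G]

/-- a nonsolvable group has two Sylow 2-subgroups -/
theorem exists_two_sylow (hns : ¬ Group.IsSolvable G) (S : Sylow 2 G) : ∃ T : Sylow 2 G, S ≠ T := by
  by_contra hcon
  push Not at hcon
  apply hns
  have hSub : Subsingleton (Sylow 2 G) := ⟨fun A B => (hcon A).symm.trans (hcon B)⟩
  have hn : (S : Subgroup G).Normal := Sylow.normal_of_subsingleton S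
  rw [Group.isSolvable_iff_subgroup_quotient (S : Subgroup G)]
  constructor
  · have := S.isPGroup'.isNilpotent
    infer_instance
  · apply FT.solvable_of_odd
    have := S.not_dvd_index
    rw [← Nat.not_even_iff_odd, even_iff_two_dvd]
    exact this

/-- the standing hypothesis for the contradiction -/
structure Bad (G : Type*) [Group G] : Prop where
  cint : CInt G
  ns : ¬ Group.IsSolvable G
  core : Cfsg.pPrimeCore 2 G = ⊥
  nc : ¬ Cfsg.pCore 2 G ≤ center G

theorem Bad.cyc (h : Bad G) : IsCyclic (Cfsg.pCore 2 G) := by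
  obtain ⟨T, hT⟩ := exists_two_sylow h.ns default
  exact isCyclic_of_le (h.cint _ T hT) (le_inf (H49.pCore_le_sylow _) (H49.pCore_le_sylow _))

/-- the 2-core of a `CInt` nonsolvable group is cyclic -/
theorem isCyclic_pCore (hc : CInt G) (hns : ¬ Group.IsSolvable G) : IsCyclic (Cfsg.pCore 2 G) := by
  obtain ⟨T, hT⟩ := exists_two_sylow hns default
  exact isCyclic_of_le (hc _ T hT) (le_inf (H49.pCore_le_sylow _) (H49.pCore_le_sylow _))

/-- the centralizer of a cyclic normal 2-subgroup has 2-power index -/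
theorem index_centralizer {X : Type*} [Group X] [Finite X] {O : Subgroup X} [hO : O.Normal]
    (hc : IsCyclic O) (h2 : IsPGroup 2 O) : ∃ k, (centralizer (O : Set X)).index = 2 ^ k := by
  have h1 := H17.relIndex_dvd_card_mulAut O
  rw [Subgroup.normalizer_eq_top, Subgroup.relIndex_top_right] at h1
  obtain ⟨m, hm⟩ := IsPGroup.iff_card.1 h2
  rw [IsCyclic.card_mulAut, hm] at h1
  have h3 : Nat.totient (2 ^ m) ∣ 2 ^ m := by
    rcases Nat.eq_zero_or_pos m with h0 | h0
    · subst h0; simp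
    · rw [Nat.totient_prime_pow Nat.prime_two h0]
      simp only [Nat.add_one_sub_one, mul_one]
      exact pow_dvd_pow 2 (by omega)
  obtain ⟨k, -, hk⟩ := (Nat.dvd_prime_pow Nat.prime_two).1 (h1.trans h3)
  exact ⟨k, hk⟩

/-- a solvable normal subgroup of a group with `O(G) = 1` and `O_2(G)` cyclic is a 2-group. -/
theorem le_pCore (hcy : IsCyclic (Cfsg.pCore 2 G)) (hO : Cfsg.pPrimeCore 2 G = ⊥)
    (N : Subgroup G) [hN : N.Normal] (hs : Group.IsSolvable ↥N) : N ≤ Cfsg.pCore 2 G := by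
  have h1 : Cfsg.pPrimeCore 2 ↥N = ⊥ := Bal.pPrimeCore_subnormal_eq_bot hO hN.isSubnormal
  have h2 := H91.centralizer_pCore_le 2 h1
  have h3 : (Cfsg.pCore 2 ↥N).map N.subtype ≤ Cfsg.pCore 2 G :=
    H49.pCoreOf_le_pCore_of_isSubnormal hN.isSubnormal
  have h4 : IsCyclic (Cfsg.pCore 2 ↥N) := by
    have h5 := isCyclic_of_le hcy h3
    exact isCyclic_of_surjective ((Cfsg.pCore 2 ↥N).equivMapOfInjective N.subtype N.subtype_injective).symm
      ((Cfsg.pCore 2 ↥N).equivMapOfInjective N.subtype N.subtype_injective).symm.surjective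
  have h5 : IsPGroup 2 ↥N := by
    obtain ⟨k, hk⟩ := index_centralizer h4 (Solv.pCore_isPGroup 2)
    obtain ⟨m, hm⟩ := IsPGroup.iff_card.1 ((Solv.pCore_isPGroup (G := ↥N) 2).to_le h2)
    apply IsPGroup.of_card (n := m + k)
    rw [← Subgroup.card_mul_index (centralizer ((Cfsg.pCore 2 ↥N : Subgroup ↥N) : Set ↥N)), hm, hk, pow_add]
  exact Solv.le_pCore hN h5

end Two

namespace Bad

variable {G : Type*} [Group G] [Finite G] (h : Bad G)
include h

local notation "R" => Cfsg.pCore 2 G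
local notation "C" => centralizer ((Cfsg.pCore 2 G : Subgroup G) : Set G)

omit [Finite G] in
omit h in
theorem r2 [Finite G] : IsPGroup 2 ↥(Cfsg.pCore 2 G) := Solv.pCore_isPGroup 2

/-- `4 ∣ |R|` -/
theorem four_dvd : 4 ∣ Nat.card ↥(Cfsg.pCore 2 G) := by
  obtain ⟨k, hk⟩ := IsPGroup.iff_card.1 (r2 (G := G))
  rcases Nat.lt_or_ge k 2 with hk2 | hk2
  · exfalso
    apply h.nc
    have h1 := H17.relIndex_dvd_card_mulAut (Cfsg.pCore 2 G)
    have hcy := h.cyc
    rw [Subgroup.normalizer_eq_top, Subgroup.relIndex_top_right, IsCyclic.card_mulAut, hk] at h1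
    have h2 : Nat.totient (2 ^ k) = 1 := by
      interval_cases k <;> simp
    rw [h2, Nat.dvd_one, Subgroup.index_eq_one, Subgroup.centralizer_eq_top_iff_subset] at h1
    exact h1
  · rw [hk]
    exact pow_dvd_pow 2 hk2

/-- For distinct Sylow 2-subgroups the intersection is contained in `C(R)`. -/
theorem inter_le {S T : Sylow 2 G} (hST : S ≠ T) {x : G} (hS : x ∈ S) (hT : x ∈ T) : x ∈ C := by
  have hc := h.cint S T hST
  rw [Subgroup.mem_centralizer_iff]
  intro r hr
  exact comm_of_cyclic hc ⟨H49.pCore_le_sylow S hr, H49.pCore_le_sylow T hr⟩ ⟨hS, hT⟩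

/-- 2-elements outside `C` lie in only one Sylow 2-subgroup. -/
theorem eq_of_not_mem {S T : Sylow 2 G} {x : G} (hS : x ∈ S) (hT : x ∈ T) (hx : x ∉ C) : S = T := by
  by_contra hST
  exact hx (h.inter_le hST hS hT)

/-- the central involution -/
theorem exists_z : ∃ z ∈ R, orderOf z = 2 ∧ z ∈ center G ∧ (∀ w ∈ R, w ^ 2 = 1 → w = 1 ∨ w = z) := by
  have hcy := h.cyc
  obtain ⟨⟨z, hz⟩, hz₀⟩ := exists_prime_orderOf_dvd_card' (G := ↥(Cfsg.pCore 2 G)) 2
    ((by norm_num : (2 : ℕ) ∣ 4).trans h.four_dvd)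
  have hzo : orderOf z = 2 := by rw [Subgroup.orderOf_mk] at hz₀; exact hz₀
  have hz2 : z ^ 2 = 1 := orderOf_dvd_iff_pow_eq_one.1 hzo.dvd
  have hz2' : z ^ (2 : ℤ) = 1 := by exact_mod_cast hz2
  have huniq : ∀ w ∈ R, w ^ 2 = 1 → w = 1 ∨ w = z := by
    intro w hw hw2
    have h1 : w ∈ Subgroup.zpowers z := by
      refine mem_of_pow_card hcy (by rw [Subgroup.zpowers_le]; exact hz) hw ?_
      rw [Nat.card_zpowers, hzo]; exact hw2
    obtain ⟨n, rfl⟩ := (Subgroup.mem_zpowers_iff).1 h1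
    rcases Int.even_or_odd n with ⟨m, hm⟩ | ⟨m, hm⟩
    · left
      rw [hm, ← two_mul, zpow_mul, hz2', one_zpow]
    · right
      rw [hm, zpow_add, zpow_mul, zpow_one, hz2', one_zpow, one_mul]
  refine ⟨z, hz, hzo, ?_, huniq⟩
  rw [Subgroup.mem_center_iff]
  intro g
  have hn : (Cfsg.pCore 2 G).Normal := inferInstance
  have h1 : g * z * g⁻¹ ∈ R := hn.conj_mem _ hz g
  have h2 : (g * z * g⁻¹) ^ 2 = 1 := by
    rw [conj_pow, hz2]; group
  rcases huniq _ h1 h2 with h3 | h3
  · exfalso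
    have : z = 1 := by
      have h4 : z = g⁻¹ * (g * z * g⁻¹) * g := by group
      rw [h4, h3]; group
    rw [this, orderOf_one] at hzo
    omega
  · calc g * z = (g * z * g⁻¹) * g := by group
      _ = z * g := by rw [h3]

/-- An element of the intersection of two Sylow 2-subgroups which is inverted by an element of `C`
has order at most 2. -/
theorem sq_eq_one {S T : Sylow 2 G} (hST : S ≠ T) {w x : G} (hS : w ∈ S) (hT : w ∈ T) (hx : x ∈ C)
    (hinv : x * w * x⁻¹ = w⁻¹) : w ^ 2 = 1 := by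
  have hc := h.cint S T hST
  obtain ⟨k, hk⟩ := (S.isPGroup' : IsPGroup 2 (S : Subgroup G)) ⟨w, hS⟩
  have hk' : w ^ 2 ^ k = 1 := by
    have := congrArg ((S : Subgroup G).subtype) hk
    rwa [map_pow, map_one] at this
  obtain ⟨m, -, hm⟩ := (Nat.dvd_prime_pow Nat.prime_two).1 (orderOf_dvd_of_pow_eq_one hk')
  by_contra hne
  have hm2 : 2 ≤ m := by
    by_contra hlt
    apply hne
    apply orderOf_dvd_iff_pow_eq_one.1
    rw [hm]
    calc 2 ^ m ∣ 2 ^ 1 := pow_dvd_pow 2 (by omega)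
      _ = 2 := by norm_num
  obtain ⟨l, rfl⟩ := Nat.exists_eq_add_of_le hm2
  have hv4 : orderOf (w ^ 2 ^ l) = 4 := by
    rw [orderOf_pow' w (by positivity), hm, Nat.gcd_eq_right (pow_dvd_pow 2 (by omega)), pow_add,
      Nat.mul_div_cancel _ (by positivity)]
    norm_num
  have hvR : w ^ 2 ^ l ∈ R := by
    refine mem_of_pow_card hc (le_inf (H49.pCore_le_sylow S) (H49.pCore_le_sylow T)) 
      (((S : Subgroup G) ⊓ (T : Subgroup G)).pow_mem ⟨hS, hT⟩ _) ?_
    apply orderOf_dvd_iff_pow_eq_one.1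
    rw [hv4]
    exact h.four_dvd
  have h1 : x * w ^ 2 ^ l * x⁻¹ = (w ^ 2 ^ l)⁻¹ := by
    rw [← conj_pow, hinv, inv_pow]
  have h2 : x * w ^ 2 ^ l * x⁻¹ = w ^ 2 ^ l := by
    rw [← Subgroup.mem_centralizer_iff.1 hx _ hvR]; group
  have h3 : (w ^ 2 ^ l) ^ 2 = 1 := by
    rw [pow_two]
    nth_rw 1 [← h2]
    rw [h1]
    group
  have h4 := orderOf_dvd_of_pow_eq_one h3
  rw [hv4] at h4
  omega

/-- Some element of `S` outside `C` commutes with a given odd order subgroup of `N(S)`. -/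
theorem exists_outside (S : Sylow 2 G) {P : Subgroup G} (hP : P ≤ normalizer ((S : Subgroup G) : Set G))
    (hodd : Odd (Nat.card P)) : ∃ c ∈ S, c ∉ C ∧ c ∈ centralizer (P : Set G) := by
  have hcy := h.cyc
  have hn : (Cfsg.pCore 2 G).Normal := inferInstance
  have hCn : (C).Normal := inferInstance
  -- `S` is not contained in `C`
  obtain ⟨s, hs, hsC⟩ : ∃ s ∈ S, s ∉ C := by
    by_contra hcon
    push Not at hcon
    obtain ⟨k, hk⟩ := index_centralizer hcy (r2 (G := G))
    have h1 : (C).index ∣ (S : Subgroup G).index := Subgroup.index_dvd_of_le hcon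
    have h2 : k = 0 := by
      by_contra hk0
      apply S.not_dvd_index
      refine dvd_trans ?_ h1
      rw [hk]
      exact dvd_pow_self 2 hk0
    rw [h2, pow_zero, Subgroup.index_eq_one, Subgroup.centralizer_eq_top_iff_subset] at hk
    exact h.nc hk
  -- commutators are in `C`
  have hcomm : ∀ a b : G, a * b * a⁻¹ * b⁻¹ ∈ C := by
    intro a b
    have h1 := Supersolvable.commutator_le_centralizer_of_isCyclic (Cfsg.pCore 2 G) hcy
    apply h1
    have h2 := Subgroup.commutator_mem_commutator (Subgroup.mem_top a) (Subgroup.mem_top b)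
    rwa [commutatorElement_def] at h2
  have hcop : (Nat.card P).Coprime (Nat.card (S : Subgroup G)) := by
    obtain ⟨m, hm⟩ := IsPGroup.iff_card.1 S.isPGroup'
    rw [hm]
    exact Nat.Coprime.pow_right m hodd.coprime_two_right
  have hsolS : Group.IsSolvable (S : Subgroup G) := by
    have := S.isPGroup'.isNilpotent
    infer_instance
  have hN1 : (S : Subgroup G) ≤ normalizer (((S : Subgroup G) ⊓ C : Subgroup G) : Set G) := by
    apply H11.le_normalizer_of_conj
    intro a ha x hx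
    exact ⟨(S : Subgroup G).mul_mem ((S : Subgroup G).mul_mem ha hx.1) ((S : Subgroup G).inv_mem ha),
      hCn.conj_mem x hx.2 a⟩
  have hN2 : P ≤ normalizer (((S : Subgroup G) ⊓ C : Subgroup G) : Set G) := by
    apply H11.le_normalizer_of_conj
    intro a ha x hx
    exact ⟨(Subgroup.mem_normalizer_iff.1 (hP ha) x).1 hx.1, hCn.conj_mem x hx.2 a⟩
  obtain ⟨c, hc, hsc⟩ := Cop.fixed_points_quotient P (S : Subgroup G) hP hcop (Or.inr hsolS)
    ((S : Subgroup G) ⊓ C) inf_le_left hN1 hN2 s hs (fun a ha =>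
      ⟨(S : Subgroup G).mul_mem ((Subgroup.mem_normalizer_iff.1 (hP ha) s).1 hs) ((S : Subgroup G).inv_mem hs),
        hcomm a s⟩)
  refine ⟨c, hc.1, ?_, hc.2⟩
  intro hcC
  apply hsC
  have h1 : s = c * (s⁻¹ * c)⁻¹ := by group
  rw [h1]
  exact (C).mul_mem hcC ((C).inv_mem hsc.2)

/-- Fact 7: 2-elements normalizing an odd order subgroup of `N(S)` centralize it. -/
theorem centralizes (S : Sylow 2 G) {P : Subgroup G} (hP : P ≤ normalizer ((S : Subgroup G) : Set G))
    (hodd : Odd (Nat.card P)) {u : G} (hu : u ∈ normalizer (P : Set G)) (hu2 : ∃ k, u ^ 2 ^ k = 1) :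
    u ∈ centralizer (P : Set G) := by
  obtain ⟨c, hcS, hcC, hcP⟩ := h.exists_outside S hP hodd
  set N := normalizer (P : Set G) with hN
  have hcN : c ∈ N := Subgroup.centralizer_le_normalizer _ hcP
  -- a Sylow 2-subgroup of `N` containing `c`
  have hc2 : IsPGroup 2 ↥(Subgroup.zpowers (⟨c, hcN⟩ : N)) := by
    obtain ⟨k, hk⟩ := exists_pow_of_mem S.isPGroup' hcS
    exact isPGroup_zp (k := k) (Subtype.ext (by simpa using hk))
  obtain ⟨Q, hQ⟩ := hc2.exists_le_sylow
  have hcQ : (⟨c, hcN⟩ : N) ∈ Q := hQ (Subgroup.mem_zpowers _)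
  have hQ2 : IsPGroup 2 ↥((Q : Subgroup N).map N.subtype) := Q.isPGroup'.map _
  obtain ⟨T, hT⟩ := hQ2.exists_le_sylow
  have hTS : T = S := h.eq_of_not_mem (hT ⟨_, hcQ, rfl⟩) hcS hcC
  subst hTS
  have hcop : ∀ x, x ∈ T → x ∈ P → x = 1 := by
    intro x hxT hxP
    have hcop : (Nat.card P).Coprime (Nat.card (T : Subgroup G)) := by
      obtain ⟨m, hm⟩ := IsPGroup.iff_card.1 T.isPGroup'
      rw [hm]
      exact Nat.Coprime.pow_right m hodd.coprime_two_right
    exact Cop.eq_one_of_mem_of_mem hcop hxP hxT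
  have hQP : ∀ q : N, q ∈ Q → (q : G) ∈ centralizer (P : Set G) := by
    intro q hq
    rw [Subgroup.mem_centralizer_iff]
    intro y hy
    have hqT : (q : G) ∈ T := hT ⟨_, hq, rfl⟩
    have h1 : y * q * y⁻¹ * (q : G)⁻¹ ∈ T :=
      (T : Subgroup G).mul_mem ((Subgroup.mem_normalizer_iff.1 (hP hy) _).1 hqT) ((T : Subgroup G).inv_mem hqT)
    have h2 : y * q * y⁻¹ * (q : G)⁻¹ ∈ P := by
      have h3 : (q : G) * y⁻¹ * (q : G)⁻¹ ∈ P := (Subgroup.mem_normalizer_iff.1 q.2 _).1 (P.inv_mem hy)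
      have h4 := P.mul_mem hy h3
      simpa [mul_assoc] using h4
    have h3 := hcop _ h1 h2
    calc y * (q : G) = (y * q * y⁻¹ * (q : G)⁻¹) * (q * y) := by group
      _ = q * y := by rw [h3, one_mul]
  -- `u` lies in a conjugate of `Q`
  have hu2' : IsPGroup 2 ↥(Subgroup.zpowers (⟨u, hu⟩ : N)) := by
    obtain ⟨k, hk⟩ := hu2
    exact isPGroup_zp (k := k) (Subtype.ext (by simpa using hk))
  obtain ⟨Q', hQ'⟩ := hu2'.exists_le_sylow
  obtain ⟨n, hn⟩ := MulAction.exists_smul_eq N Q Q'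
  have huQ' : (⟨u, hu⟩ : N) ∈ Q' := hQ' (Subgroup.mem_zpowers _)
  rw [← hn] at huQ'
  have h1 : (n⁻¹ * ⟨u, hu⟩ * n : N) ∈ Q := by
    have h2 : (⟨u, hu⟩ : N) ∈ ((n • Q : Sylow 2 N) : Subgroup N) := huQ'
    rw [Sylow.coe_subgroup_smul, Subgroup.mem_pointwise_smul_iff_inv_smul_mem] at h2
    have h3 : (n⁻¹ * ⟨u, hu⟩ * n : N) ∈ (Q : Subgroup N) := by simpa [MulAut.smul_def] using h2
    exact h3
  have h2 := hQP _ h1
  rw [Subgroup.mem_centralizer_iff] at h2 ⊢
  intro y hy
  have h3 : (n : G)⁻¹ * y * n ∈ P := by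
    have := (Subgroup.mem_normalizer_iff.1 (N.inv_mem n.2) y).1 hy
    simpa using this
  have h4 := h2 _ h3
  push_cast at h4
  calc y * u = n * ((n : G)⁻¹ * y * n * ((n : G)⁻¹ * u * n)) * (n : G)⁻¹ := by group
    _ = n * ((n : G)⁻¹ * u * n * ((n : G)⁻¹ * y * n)) * (n : G)⁻¹ := by rw [h4]
    _ = u * y := by group

omit h in
/-- a 2-element normalizing a Sylow 2-subgroup lies in it. -/
theorem mem_sylow_of_normalizes (S : Sylow 2 G) {x : G} (hx : x ∈ normalizer ((S : Subgroup G) : Set G))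
    (h2 : ∃ k, x ^ 2 ^ k = 1) : x ∈ S := by
  obtain ⟨k, hk⟩ := h2
  have h1 : IsPGroup 2 ↥((S : Subgroup G) ⊔ Subgroup.zpowers x) :=
    IsPGroup.to_sup_of_normal_left' S.isPGroup' (isPGroup_zp hk) (by rw [Subgroup.zpowers_le]; exact hx)
  have h3 := S.is_maximal' h1 le_sup_left
  have h4 : x ∈ (S : Subgroup G) ⊔ Subgroup.zpowers x := Subgroup.mem_sup_right (Subgroup.mem_zpowers x)
  rw [h3] at h4
  exact h4

omit [Finite G] h in
theorem mem_normalizer_zpowers {x w : G} (hxx : x * x = 1) (hinv : x * w * x⁻¹ = w⁻¹) :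
    x ∈ normalizer ((Subgroup.zpowers w : Subgroup G) : Set G) := by
  have hf : ∀ b ∈ Subgroup.zpowers w, x * b * x⁻¹ ∈ Subgroup.zpowers w := by
    intro b hb
    obtain ⟨n, rfl⟩ := Subgroup.mem_zpowers_iff.1 hb
    rw [← conj_zpow, hinv]
    exact (Subgroup.zpowers w).zpow_mem ((Subgroup.zpowers w).inv_mem (Subgroup.mem_zpowers w)) n
  rw [Subgroup.mem_normalizer_iff]
  intro b
  refine ⟨hf b, fun hb => ?_⟩
  have h1 := hf _ hb
  have hxi : x⁻¹ = x := inv_eq_of_mul_eq_one_left hxx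
  have h2 : x * (x * b * x⁻¹) * x⁻¹ = b := by
    rw [hxi]
    calc x * (x * b * x) * x = (x * x) * b * (x * x) := by simp only [mul_assoc]
      _ = b := by rw [hxx, one_mul, mul_one]
  rwa [h2] at h1

omit [Finite G] h in
/-- `x` an involution lying in the unique Sylow subgroup `S`, `w` a 2-element inverted by `x`: `w ∈ S`. -/
theorem mem_of_inverted [Finite G] {S : Sylow 2 G} {x w : G} (hxx : x * x = 1)
    (huniq : ∀ T : Sylow 2 G, x ∈ T → T = S) (hw : ∃ k, w ^ 2 ^ k = 1) (hinv : x * w * x⁻¹ = w⁻¹) :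
    w ∈ S := by
  obtain ⟨k, hk⟩ := hw
  have hx1 : x ^ 2 ^ 1 = 1 := by rw [pow_one, pow_two]; exact hxx
  have hxn := mem_normalizer_zpowers hxx hinv
  have h1 : IsPGroup 2 ↥(Subgroup.zpowers w ⊔ Subgroup.zpowers x) :=
    IsPGroup.to_sup_of_normal_left' (isPGroup_zp hk) (isPGroup_zp hx1) (by rw [Subgroup.zpowers_le]; exact hxn)
  obtain ⟨T, hT⟩ := h1.exists_le_sylow
  have hT' := huniq T (hT (Subgroup.mem_sup_right (Subgroup.mem_zpowers x)))
  rw [← hT']
  exact hT (Subgroup.mem_sup_left (Subgroup.mem_zpowers w))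

end Bad

/-- `z` is the central involution of `O_2(G)`. -/
structure IsZ {G : Type*} [Group G] (z : G) : Prop where
  mem : z ∈ Cfsg.pCore 2 G
  ord : orderOf z = 2
  cen : z ∈ center G
  uniq : ∀ w ∈ Cfsg.pCore 2 G, w ^ 2 = 1 → w = 1 ∨ w = z

/-- The data: `z` the central involution. `x` is a *good* involution of `S`. -/
structure Good {G : Type*} [Group G] (z : G) (S : Sylow 2 G) (x : G) : Prop where
  mem : x ∈ S
  cen : x ∈ centralizer ((Cfsg.pCore 2 G : Subgroup G) : Set G)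
  sq : x * x = 1
  ne_one : x ≠ 1
  ne_z : x ≠ z

section GoodSec

variable {G : Type*} [Group G] [Finite G]

theorem eq_z_of (h : Bad G) {z : G} (hz : IsZ z) {S T : Sylow 2 G} (hST : S ≠ T) {w : G} (hS : w ∈ S) (hT : w ∈ T) (hw : w ^ 2 = 1) :
    w = 1 ∨ w = z := by
  refine hz.uniq w ?_ hw
  refine mem_of_pow_card (h.cint S T hST) (le_inf (H49.pCore_le_sylow S) (H49.pCore_le_sylow T)) ⟨hS, hT⟩ ?_
  apply orderOf_dvd_iff_pow_eq_one.1
  exact (orderOf_dvd_of_pow_eq_one hw).trans ((by norm_num : (2 : ℕ) ∣ 4).trans h.four_dvd)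

theorem Good.uniq (h : Bad G) {z : G} (hz : IsZ z) {S : Sylow 2 G} {x : G} (hx : Good z S x) (T : Sylow 2 G) (hT : x ∈ T) : T = S := by
  by_contra hne
  rcases eq_z_of h hz hne hT hx.mem (by rw [pow_two]; exact hx.sq) with h1 | h1
  · exact hx.ne_one h1
  · exact hx.ne_z h1

/-- 2-parts of products of good involutions lie in `{1, z}`. -/
theorem two_part (h : Bad G) {z : G} (hz : IsZ z) {S T : Sylow 2 G} (hST : S ≠ T) {x y : G} (hx : Good z S x) (hy : Good z T y) {l k : ℕ}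
    (hlk : orderOf (x * y) = 2 ^ k * l) : (x * y) ^ l = 1 ∨ (x * y) ^ l = z := by
  have hxi : x⁻¹ = x := inv_eq_of_mul_eq_one_left hx.sq
  have hyi : y⁻¹ = y := inv_eq_of_mul_eq_one_left hy.sq
  set w := (x * y) ^ l with hw
  have hw2 : ∃ k, w ^ 2 ^ k = 1 := ⟨k, by rw [hw, ← pow_mul, mul_comm l, ← hlk, pow_orderOf_eq_one]⟩
  have hinvx : x * w * x⁻¹ = w⁻¹ := by
    rw [hw, ← conj_pow, ← inv_pow]
    congr 1
    rw [mul_inv_rev, hxi, hyi]
    calc x * (x * y) * x = (x * x) * y * x := by simp only [mul_assoc]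
      _ = y * x := by rw [hx.sq, one_mul]
  have hinvy : y * w * y⁻¹ = w⁻¹ := by
    rw [hw, ← conj_pow, ← inv_pow]
    congr 1
    rw [mul_inv_rev, hxi, hyi]
    calc y * (x * y) * y = y * x * (y * y) := by simp only [mul_assoc]
      _ = y * x := by rw [hy.sq, mul_one]
  have hwS : w ∈ S := Bad.mem_of_inverted hx.sq (fun T' hT' => Good.uniq h hz hx T' hT') hw2 hinvx
  have hwT : w ∈ T := Bad.mem_of_inverted hy.sq (fun T' hT' => Good.uniq h hz hy T' hT') hw2 hinvy
  exact eq_z_of h hz hST hwS hwT (h.sq_eq_one hST hwS hwT hx.cen hinvx)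

theorem solvable_of_cyclic_sylow {X : Type*} [Group X] [Finite X] (Q : Sylow 2 X) (hQ : IsCyclic Q) :
    Group.IsSolvable X := by
  by_cases h2 : 2 ∣ Nat.card X
  · have hmin : (Nat.card X).minFac = 2 := by
      refine le_antisymm (Nat.minFac_le_of_dvd le_rfl h2) (Nat.minFac_prime ?_).two_le
      intro h1
      rw [h1] at h2
      omega
    have hK := IsCyclic.isComplement' hmin hQ
    set K := (MonoidHom.transferSylow Q (hQ.normalizer_le_centralizer hmin)).ker with hKd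
    have hKn : K.Normal := by rw [hKd]; infer_instance
    rw [Group.isSolvable_iff_subgroup_quotient K]
    constructor
    · apply FT.solvable_of_odd
      rw [← Nat.not_even_iff_odd, even_iff_two_dvd]
      have h3 : Nat.card K = (Q : Subgroup X).index := by
        have h4 := hK.card_mul_card
        have h5 := (Q : Subgroup X).card_mul_index
        have h6 : 0 < Nat.card (Q : Subgroup X) := Nat.card_pos
        rw [← h5, mul_comm] at h4
        exact Nat.eq_of_mul_eq_mul_left h6 h4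
      rw [h3]
      exact Q.not_dvd_index
    · have h3 : Nat.card (X ⧸ K) = Nat.card (Q : Subgroup X) := by
        have h4 := hK.card_mul_card
        have h5 := K.card_mul_index
        have h6 : 0 < Nat.card K := Nat.card_pos
        rw [← h5] at h4
        exact (Nat.eq_of_mul_eq_mul_left h6 h4).symm
      obtain ⟨m, hm⟩ := IsPGroup.iff_card.1 Q.isPGroup'
      have h4 : IsPGroup 2 (X ⧸ K) := IsPGroup.of_card (n := m) (by rw [h3, hm])
      have := h4.isNilpotent
      infer_instance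
  · apply FT.solvable_of_odd
    rw [← Nat.not_even_iff_odd, even_iff_two_dvd]
    exact h2

theorem exists_good (h : Bad G) {z : G} (hz : IsZ z) : ∃ (S : Sylow 2 G) (x : G), Good z S x := by
  set C := centralizer ((Cfsg.pCore 2 G : Subgroup G) : Set G) with hC
  have hCn : C.Normal := by rw [hC]; infer_instance
  have hcy := h.cyc
  obtain ⟨Q⟩ : Nonempty (Sylow 2 ↥C) := inferInstance
  have hCns : ¬ Group.IsSolvable C := by
    intro hs
    apply h.ns
    rw [Group.isSolvable_iff_subgroup_quotient C]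
    refine ⟨hs, ?_⟩
    obtain ⟨k, hk⟩ := index_centralizer hcy (Bad.r2 (G := G))
    have h4 : IsPGroup 2 (G ⧸ C) := IsPGroup.of_card (n := k) hk
    have := h4.isNilpotent
    infer_instance
  by_contra hcon
  push Not at hcon
  -- all involutions of `Q` are `z`
  have hQz : ∀ x : ↥C, x ∈ Q → x * x = 1 → (x : G) = 1 ∨ (x : G) = z := by
    intro x hx hxx
    have hQ2 : IsPGroup 2 ↥((Q : Subgroup ↥C).map C.subtype) := Q.isPGroup'.map _
    obtain ⟨T, hT⟩ := hQ2.exists_le_sylow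
    by_contra hc
    push Not at hc
    exact hcon T x ⟨hT ⟨x, hx, rfl⟩, x.2, by simpa using congrArg Subtype.val hxx, hc.1, hc.2⟩
  have hr : Cfsg.PRankLE 2 1 ↥(Q : Subgroup ↥C) := by
    intro A _ hA
    have hinj : Function.Injective (fun a : A => (((a : ↥(Q : Subgroup ↥C)) : ↥C) : G)) := by
      intro a b hab
      exact Subtype.ext (Subtype.ext (Subtype.ext hab))
    have hsub : Set.range (fun a : A => (((a : ↥(Q : Subgroup ↥C)) : ↥C) : G)) ⊆ {1, z} := by
      rintro _ ⟨a, rfl⟩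
      have h1 := hA a a.2
      have h2 : ((a : ↥(Q : Subgroup ↥C)) : ↥C) * ((a : ↥(Q : Subgroup ↥C)) : ↥C) = 1 := by
        have := congrArg Subtype.val h1
        simpa [pow_two] using this
      rcases hQz _ (a : ↥(Q : Subgroup ↥C)).2 h2 with h3 | h3
      · left; exact h3
      · right; exact h3
    have h1 := Set.ncard_le_ncard hsub (Set.toFinite _)
    have h2 : (Set.range (fun a : A => (((a : ↥(Q : Subgroup ↥C)) : ↥C) : G))).ncard = Nat.card A := by
      rw [← Nat.card_coe_set_eq]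
      exact Nat.card_range_of_injective hinj
    rw [h2] at h1
    exact h1.trans ((Set.ncard_insert_le _ _).trans (by simp))
  rcases H49.cyclic_or_quaternion_of_pRankLE Q.isPGroup' hr with h1 | ⟨-, n, ⟨e⟩⟩
  · exact hCns (solvable_of_cyclic_sylow Q h1)
  · rcases Nat.eq_zero_or_pos n with h0 | h0
    · subst h0
      have h2 : IsCyclic (QuaternionGroup (2 ^ 0)) := QuaternionGroup.quaternionGroup_one_isCyclic
      exact hCns (solvable_of_cyclic_sylow Q (isCyclic_of_surjective e.symm e.symm.surjective))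
    · -- an element of order 4 of `R`
      obtain ⟨g, hg⟩ := IsCyclic.exists_ofOrder_eq_natCard (α := ↥(Cfsg.pCore 2 G))
      obtain ⟨⟨r, hr'⟩, hro⟩ : ∃ r : ↥(Cfsg.pCore 2 G), orderOf r = 4 := ⟨g ^ (orderOf g / 4),
        orderOf_pow_orderOf_div (by rw [hg]; exact Nat.card_pos.ne') (by rw [hg]; exact h.four_dvd)⟩
      rw [Subgroup.orderOf_mk] at hro
      have hrC : r ∈ C := by
        rw [hC, Subgroup.mem_centralizer_iff]
        intro x hx
        exact comm_of_cyclic hcy hx hr'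
      have hRQ : (Cfsg.pCore 2 G).subgroupOf C ≤ Q := by
        have hn : ((Cfsg.pCore 2 G).subgroupOf C).Normal := inferInstance
        exact (Solv.le_pCore hn ((Bad.r2 (G := G)).comap_subtype)).trans (H49.pCore_le_sylow Q)
      have hrQ : (⟨r, hrC⟩ : ↥C) ∈ Q := hRQ (Subgroup.mem_subgroupOf.2 hr')
      have h2n : 2 ≤ 2 ^ n := by
        calc 2 = 2 ^ 1 := by norm_num
          _ ≤ 2 ^ n := Nat.pow_le_pow_right two_pos h0
      have h1 := H4.quat_center h2n (e ⟨⟨r, hrC⟩, hrQ⟩) (by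
        intro y
        obtain ⟨q, rfl⟩ := e.surjective y
        rw [← map_mul, ← map_mul]
        congr 1
        apply Subtype.ext
        apply Subtype.ext
        exact (Subgroup.mem_centralizer_iff.1 (q : ↥C).2 r hr').symm)
      rw [← map_mul, ← map_one e] at h1
      have h2 := e.injective h1
      have h3 : r * r = 1 := congrArg (fun t : ↥(Q : Subgroup ↥C) => ((t : ↥C) : G)) h2
      have h4 := orderOf_dvd_of_pow_eq_one (show r ^ 2 = 1 by rw [pow_two]; exact h3)
      rw [hro] at h4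
      omega

/-- Good involutions exist in every Sylow 2-subgroup. -/
theorem exists_good' (h : Bad G) {z : G} (hz : IsZ z) (T : Sylow 2 G) : ∃ x : G, Good z T x := by
  obtain ⟨S, x, hx⟩ := exists_good h hz
  obtain ⟨g, rfl⟩ := MulAction.exists_smul_eq G S T
  have hCn : (centralizer ((Cfsg.pCore 2 G : Subgroup G) : Set G)).Normal := inferInstance
  refine ⟨g * x * g⁻¹, ?_, hCn.conj_mem x hx.cen g, ?_, ?_, ?_⟩
  · change g * x * g⁻¹ ∈ ((g • S : Sylow 2 G) : Subgroup G)
    rw [Sylow.coe_subgroup_smul]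
    exact ⟨x, hx.mem, rfl⟩
  · calc g * x * g⁻¹ * (g * x * g⁻¹) = g * (x * x) * g⁻¹ := by group
      _ = 1 := by rw [hx.sq]; group
  · intro h1
    apply hx.ne_one
    calc x = g⁻¹ * (g * x * g⁻¹) * g := by group
      _ = 1 := by rw [h1]; group
  · intro h1
    apply hx.ne_z
    calc x = g⁻¹ * (g * x * g⁻¹) * g := by group
      _ = g⁻¹ * (z * g) := by rw [h1, mul_assoc]
      _ = g⁻¹ * (g * z) := by rw [Subgroup.mem_center_iff.1 hz.cen g]
      _ = z := by group

/-- the product `y z` of a good involution with `z` -/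
theorem Good.mul_z {z : G} (hz : IsZ z) {T : Sylow 2 G} {y : G} (hy : Good z T y) : Good z T (y * z) := by
  have hzz : z * z = 1 := by have := pow_orderOf_eq_one z; rwa [hz.ord, pow_two] at this
  have hc : y * z = z * y := Subgroup.mem_center_iff.1 hz.cen y
  refine ⟨(T : Subgroup G).mul_mem hy.mem (H49.pCore_le_sylow T hz.mem), ?_, ?_, ?_, ?_⟩
  · exact (centralizer _).mul_mem hy.cen (Subgroup.center_le_centralizer _ hz.cen)
  · calc y * z * (y * z) = y * (z * y) * z := by simp only [mul_assoc]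
      _ = (y * y) * (z * z) := by rw [← hc]; simp only [mul_assoc]
      _ = 1 := by rw [hy.sq, hzz, one_mul]
  · intro h1
    apply hy.ne_z
    calc y = y * z * z := by rw [mul_assoc, hzz, mul_one]
      _ = z := by rw [h1, one_mul]
  · intro h1
    apply hy.ne_one
    calc y = y * z * z := by rw [mul_assoc, hzz, mul_one]
      _ = 1 := by rw [h1, hzz]

/-- Swapping, odd order case. -/
theorem swap_odd {z : G} (h : Bad G) (hz : IsZ z) {S T : Sylow 2 G} {x y : G} (hx : Good z S x)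
    (hy : Good z T y) (hodd : Odd (orderOf (x * y))) :
    ∃ u : G, u * u = 1 ∧ u ∈ centralizer ((Cfsg.pCore 2 G : Subgroup G) : Set G) ∧ u • S = T ∧
      u * x * u⁻¹ = y := by
  obtain ⟨j, hj⟩ := hodd
  set d := x * y with hd
  set e := d ^ (j + 1) with he
  have hee : e * e = d := by
    rw [he, ← pow_add, show j + 1 + (j + 1) = orderOf d + 1 by omega, pow_add, pow_orderOf_eq_one,
      one_mul, pow_one]
  have hxi : x⁻¹ = x := inv_eq_of_mul_eq_one_left hx.sq
  have hyi : y⁻¹ = y := inv_eq_of_mul_eq_one_left hy.sq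
  have hxd : x * d * x⁻¹ = d⁻¹ := by
    rw [hd, mul_inv_rev, hxi, hyi]
    calc x * (x * y) * x = (x * x) * y * x := by simp only [mul_assoc]
      _ = y * x := by rw [hx.sq, one_mul]
  have hxe : x * e * x⁻¹ = e⁻¹ := by rw [he, ← conj_pow, hxd, inv_pow]
  have huu : x * e * (x * e) = 1 := by
    calc x * e * (x * e) = (x * e * x⁻¹) * (x * x) * e := by group
      _ = 1 := by rw [hx.sq, hxe]; group
  have hui : (x * e)⁻¹ = x * e := inv_eq_of_mul_eq_one_left huu
  have hconj : (x * e) * x * (x * e)⁻¹ = y := by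
    rw [hui]
    calc x * e * x * (x * e) = x * e * (x * x) * e := by simp only [mul_assoc]
      _ = x * (e * e) := by rw [hx.sq]; simp only [mul_assoc, one_mul]
      _ = y := by rw [hee, hd, ← mul_assoc, hx.sq, one_mul]
  refine ⟨x * e, huu, ?_, ?_, hconj⟩
  · exact (centralizer _).mul_mem hx.cen ((centralizer _).pow_mem ((centralizer _).mul_mem hx.cen hy.cen) _)
  · apply Good.uniq h hz hy
    change y ∈ (((x * e) • S : Sylow 2 G) : Subgroup G)
    rw [Sylow.coe_subgroup_smul, ← hconj]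
    exact ⟨x, hx.mem, rfl⟩

/-- Swapping, general case. -/
theorem swap {z : G} (h : Bad G) (hz : IsZ z) {S T : Sylow 2 G} (hST : S ≠ T) {x y : G} (hx : Good z S x)
    (hy : Good z T y) :
    ∃ u : G, u * u = 1 ∧ u ∈ centralizer ((Cfsg.pCore 2 G : Subgroup G) : Set G) ∧ u • S = T ∧
      (u * x * u⁻¹ = y ∨ u * x * u⁻¹ = y * z) := by
  obtain ⟨k, l, hl, hkl⟩ := Nat.exists_eq_two_pow_mul_odd (n := orderOf (x * y)) (orderOf_pos _).ne'
  rcases two_part h hz hST hx hy hkl with h1 | h1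
  · obtain ⟨u, hu1, hu2, hu3, hu4⟩ := swap_odd h hz hx hy (hl.of_dvd_nat (orderOf_dvd_of_pow_eq_one h1))
    exact ⟨u, hu1, hu2, hu3, Or.inl hu4⟩
  · have hzz : z * z = 1 := by have := pow_orderOf_eq_one z; rwa [hz.ord, pow_two] at this
    have hzl : z ^ l = z := by
      obtain ⟨j, rfl⟩ := hl
      rw [pow_add, pow_mul, pow_two, hzz, one_pow, pow_one, one_mul]
    have hc : Commute (x * y) z := Subgroup.mem_center_iff.1 hz.cen _
    have h2 : (x * (y * z)) ^ l = 1 := by
      rw [← mul_assoc, hc.mul_pow, h1, hzl, hzz]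
    obtain ⟨u, hu1, hu2, hu3, hu4⟩ := swap_odd h hz hx (hy.mul_z hz) (hl.of_dvd_nat (orderOf_dvd_of_pow_eq_one h2))
    exact ⟨u, hu1, hu2, hu3, Or.inr hu4⟩

/-- Uniqueness of swapping involutions modulo `z`. -/
theorem swap_uniq {z : G} (h : Bad G) (hz : IsZ z) {S T : Sylow 2 G} (hST : S ≠ T) {u v : G}
    (hu : u * u = 1) (huC : u ∈ centralizer ((Cfsg.pCore 2 G : Subgroup G) : Set G)) (huS : u • S = T)
    (hv : v * v = 1) (hvS : v • S = T) : v = u ∨ v = u * z := by
  have hui : u⁻¹ = u := inv_eq_of_mul_eq_one_left hu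
  have hvi : v⁻¹ = v := inv_eq_of_mul_eq_one_left hv
  have huT : u • T = S := by rw [← huS, smul_smul, hu, one_smul]
  have hvT : v • T = S := by rw [← hvS, smul_smul, hv, one_smul]
  set d := u * v with hd
  have hdS : d ∈ normalizer ((S : Subgroup G) : Set G) :=
    Sylow.smul_eq_iff_mem_normalizer.1 (by rw [hd, mul_smul, hvS, huT])
  have hdT : d ∈ normalizer ((T : Subgroup G) : Set G) :=
    Sylow.smul_eq_iff_mem_normalizer.1 (by rw [hd, mul_smul, hvT, huS])
  have hinv : u * d * u⁻¹ = d⁻¹ := by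
    rw [hd, mul_inv_rev, hui, hvi]
    calc u * (u * v) * u = (u * u) * v * u := by simp only [mul_assoc]
      _ = v * u := by rw [hu, one_mul]
  obtain ⟨k, l, hl, hkl⟩ := Nat.exists_eq_two_pow_mul_odd (n := orderOf d) (orderOf_pos _).ne'
  have hord : orderOf (d ^ 2 ^ k) = l := by
    rw [orderOf_pow' d (by positivity), hkl, Nat.gcd_eq_right (dvd_mul_right _ _),
      Nat.mul_div_cancel_left _ (by positivity)]
  have hinv2 : u * d ^ 2 ^ k * u⁻¹ = (d ^ 2 ^ k)⁻¹ := by rw [← conj_pow, hinv, inv_pow]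
  have hcen := h.centralizes S (P := Subgroup.zpowers (d ^ 2 ^ k))
    (by rw [Subgroup.zpowers_le]; exact (normalizer _).pow_mem hdS _) (by rw [Nat.card_zpowers, hord]; exact hl)
    (Bad.mem_normalizer_zpowers hu hinv2) ⟨1, by rw [pow_one, pow_two]; exact hu⟩
  have h1 : u * d ^ 2 ^ k * u⁻¹ = d ^ 2 ^ k := by
    rw [← Subgroup.mem_centralizer_iff.1 hcen _ (Subgroup.mem_zpowers _)]; group
  have h2 : (d ^ 2 ^ k) ^ 2 = 1 := by
    rw [pow_two]
    nth_rw 1 [← h1]
    rw [hinv2, inv_mul_cancel]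
  have h3 : d ^ 2 ^ k = 1 := by
    have h4 := orderOf_dvd_of_pow_eq_one h2
    rw [hord] at h4
    have h5 : l = 1 := by
      have h6 := Nat.le_of_dvd two_pos h4
      obtain ⟨j, hj⟩ := hl
      omega
    rw [← orderOf_eq_one_iff, hord, h5]
  have hdS' := Bad.mem_sylow_of_normalizes S hdS ⟨k, h3⟩
  have hdT' := Bad.mem_sylow_of_normalizes T hdT ⟨k, h3⟩
  have h4 := eq_z_of h hz hST hdS' hdT' (h.sq_eq_one hST hdS' hdT' huC hinv)
  have h5 : v = u * d := by rw [hd, ← mul_assoc, hu, one_mul]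
  rcases h4 with h4 | h4
  · left; rw [h5, h4, mul_one]
  · right; rw [h5, h4]

theorem bad_false (h : Bad G) : False := by
  obtain ⟨z, hz1, hz2, hz3, hz4⟩ := h.exists_z
  have hz : IsZ z := ⟨hz1, hz2, hz3, hz4⟩
  have hzz : z * z = 1 := by have := pow_orderOf_eq_one z; rwa [hz.ord, pow_two] at this
  obtain ⟨T⟩ : Nonempty (Sylow 2 G) := inferInstance
  obtain ⟨S, hTS⟩ := exists_two_sylow h.ns T
  have hST : S ≠ T := fun e => hTS e.symm
  obtain ⟨x, hx⟩ := exists_good' h hz S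
  obtain ⟨y₀, hy₀⟩ := exists_good' h hz T
  obtain ⟨u₀, hu1, hu2, hu3, hu4⟩ := swap h hz hST hx hy₀
  have hy₁ : Good z T (u₀ * x * u₀⁻¹) := by
    rcases hu4 with h1 | h1
    · rw [h1]; exact hy₀
    · rw [h1]; exact hy₀.mul_z hz
  set y₁ := u₀ * x * u₀⁻¹ with hy₁d
  have hall : ∀ y, Good z T y → y = y₁ ∨ y = y₁ * z := by
    intro y hy
    obtain ⟨u, hv1, hv2, hv3, hv4⟩ := swap h hz hST hx hy
    have h1 : u * x * u⁻¹ = y₁ := by
      rcases swap_uniq h hz hST hu1 hu2 hu3 hv1 hv3 with h2 | h2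
      · rw [h2]
      · rw [h2, hy₁d, mul_inv_rev]
        have h3 : z * x * z⁻¹ = x := by
          rw [← Subgroup.mem_center_iff.1 hz.cen x]; group
        calc u₀ * z * x * (z⁻¹ * u₀⁻¹) = u₀ * (z * x * z⁻¹) * u₀⁻¹ := by group
          _ = u₀ * x * u₀⁻¹ := by rw [h3]
    rw [h1] at hv4
    rcases hv4 with h2 | h2
    · left; exact h2.symm
    · right
      rw [h2, mul_assoc, hzz, mul_one]
  have hy₁i : y₁⁻¹ = y₁ := inv_eq_of_mul_eq_one_left hy₁.sq
  -- pass to the quotient by `z`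
  have hZn : (Subgroup.zpowers z).Normal := by
    constructor
    intro a ha g
    have h1 : a ∈ center G := (Subgroup.zpowers_le.2 hz.cen) ha
    rw [Subgroup.mem_center_iff.1 h1 g]
    simpa using ha
  set q := QuotientGroup.mk' (Subgroup.zpowers z) with hq
  have hqz : q z = 1 := (QuotientGroup.eq_one_iff z).2 (Subgroup.mem_zpowers z)
  have hmemz : ∀ w ∈ Subgroup.zpowers z, w = 1 ∨ w = z := by
    intro w hw
    refine hz.uniq w ((Subgroup.zpowers_le.2 hz.mem) hw) ?_
    have h1 : orderOf w ∣ 2 := by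
      have h2 := Subgroup.orderOf_dvd_natCard (Subgroup.zpowers z) hw
      rwa [Nat.card_zpowers, hz.ord] at h2
    exact orderOf_dvd_iff_pow_eq_one.1 h1
  have hq1 : q y₁ ≠ 1 := by
    intro h1
    have h2 : y₁ ∈ Subgroup.zpowers z := (QuotientGroup.eq_one_iff y₁).1 h1
    rcases hmemz _ h2 with h3 | h3
    · exact hy₁.ne_one h3
    · exact hy₁.ne_z h3
  have hqo : orderOf (q y₁) = 2 := by
    apply orderOf_eq_prime _ hq1
    rw [pow_two, ← map_mul, hy₁.sq, map_one]
  have hodd : H4.OddComm (q y₁) := by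
    intro g'
    obtain ⟨g, rfl⟩ := QuotientGroup.mk'_surjective _ g'
    have hCn : (centralizer ((Cfsg.pCore 2 G : Subgroup G) : Set G)).Normal := inferInstance
    -- the conjugate is good for `g • T`
    have hg : Good z (g • T) (g * y₁ * g⁻¹) := by
      refine ⟨?_, hCn.conj_mem _ hy₁.cen g, ?_, ?_, ?_⟩
      · change g * y₁ * g⁻¹ ∈ ((g • T : Sylow 2 G) : Subgroup G)
        rw [Sylow.coe_subgroup_smul]
        exact ⟨y₁, hy₁.mem, rfl⟩
      · calc g * y₁ * g⁻¹ * (g * y₁ * g⁻¹) = g * (y₁ * y₁) * g⁻¹ := by group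
          _ = 1 := by rw [hy₁.sq]; group
      · intro h1
        apply hy₁.ne_one
        calc y₁ = g⁻¹ * (g * y₁ * g⁻¹) * g := by group
          _ = 1 := by rw [h1]; group
      · intro h1
        apply hy₁.ne_z
        calc y₁ = g⁻¹ * (g * y₁ * g⁻¹) * g := by group
          _ = g⁻¹ * (z * g) := by rw [h1, mul_assoc]
          _ = g⁻¹ * (g * z) := by rw [Subgroup.mem_center_iff.1 hz.cen g]
          _ = z := by group
    have he : q y₁ * q g * (q y₁)⁻¹ * (q g)⁻¹ = q (y₁ * (g * y₁ * g⁻¹)) := by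
      rw [← map_inv, ← map_inv, hy₁i, ← map_mul, ← map_mul, ← map_mul]
      congr 1
      group
    rw [he]
    by_cases hT : g • T = T
    · rw [hT] at hg
      have h2 : q (y₁ * (g * y₁ * g⁻¹)) = 1 := by
        rcases hall _ hg with h1 | h1
        · rw [h1, hy₁.sq, map_one]
        · rw [h1, ← mul_assoc, hy₁.sq, one_mul, hqz]
      rw [h2, orderOf_one]
      exact odd_one
    · obtain ⟨k, l, hl, hkl⟩ := Nat.exists_eq_two_pow_mul_odd (n := orderOf (y₁ * (g * y₁ * g⁻¹))) (orderOf_pos _).ne'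
      have h2 : q (y₁ * (g * y₁ * g⁻¹)) ^ l = 1 := by
        rw [← map_pow]
        rcases two_part h hz (fun e => hT e.symm) hy₁ hg hkl with h1 | h1
        · rw [h1, map_one]
        · rw [h1, hqz]
      exact hl.of_dvd_nat (orderOf_dvd_of_pow_eq_one h2)
  have hcore : Cfsg.pPrimeCore 2 (G ⧸ Subgroup.zpowers z) = ⊥ := H4.pPrimeCore_quotient_central h.core hz.ord
  have hcent : q y₁ ∈ center (G ⧸ Subgroup.zpowers z) := by
    rw [Subgroup.mem_center_iff]
    intro g'
    have h1 := H4.zstar hqo hodd g'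
    rw [hcore, Subgroup.mem_bot] at h1
    have h2 : q y₁ * g' = g' * q y₁ := by
      calc q y₁ * g' = (q y₁ * g' * (q y₁)⁻¹ * g'⁻¹) * (g' * q y₁) := by group
        _ = g' * q y₁ := by rw [h1, one_mul]
    exact h2.symm
  have hEn : (Subgroup.zpowers (q y₁)).Normal := by
    constructor
    intro a ha g
    have h1 : a ∈ center (G ⧸ Subgroup.zpowers z) := (Subgroup.zpowers_le.2 hcent) ha
    rw [Subgroup.mem_center_iff.1 h1 g]
    simpa using ha
  have hE2 : IsPGroup 2 ↥(Subgroup.zpowers (q y₁)) :=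
    IsPGroup.of_card (n := 1) (by rw [Nat.card_zpowers, hqo, pow_one])
  have hE3 : IsPGroup 2 ↥((Subgroup.zpowers (q y₁)).comap q) := by
    apply IsPGroup.comap_of_ker_isPGroup hE2
    rw [hq, QuotientGroup.ker_mk']
    exact IsPGroup.of_card (n := 1) (by rw [Nat.card_zpowers, hz.ord, pow_one])
  have hE4 : (Subgroup.zpowers (q y₁)).comap q ≤ Cfsg.pCore 2 G := Solv.le_pCore (hEn.comap q) hE3
  have hy : y₁ ∈ Cfsg.pCore 2 G := hE4 (Subgroup.mem_comap.2 (Subgroup.mem_zpowers _))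
  rcases hz.uniq _ hy (by rw [pow_two]; exact hy₁.sq) with h1 | h1
  · exact hy₁.ne_one h1
  · exact hy₁.ne_z h1

/-- Lifting: a 2-subgroup mapping into a Sylow subgroup of a quotient. -/
theorem exists_sylow_over {X Y : Type*} [Group X] [Finite X] [Group Y] [Finite Y] (f : X →* Y)
    (hf : Function.Surjective f) (S' : Sylow 2 Y) {P : Subgroup X} (hP : IsPGroup 2 P)
    (hPS : P.map f ≤ S') : ∃ S : Sylow 2 X, P ≤ S ∧ (S : Subgroup X).map f = S' := by
  obtain ⟨S₀⟩ : Nonempty (Sylow 2 X) := inferInstance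
  obtain ⟨y, hy⟩ := MulAction.exists_smul_eq Y (S₀.mapSurjective hf) S'
  obtain ⟨x, rfl⟩ := hf y
  have h1 : ((x • S₀ : Sylow 2 X) : Subgroup X).map f = S' := by
    rw [← hy, Sylow.coe_subgroup_smul, Sylow.coe_subgroup_smul]
    ext w
    constructor
    · rintro ⟨_, ⟨s, hs, rfl⟩, rfl⟩
      refine ⟨f s, ⟨s, hs, rfl⟩, ?_⟩
      simp [MulAut.smul_def]
    · rintro ⟨_, ⟨s, hs, rfl⟩, rfl⟩
      refine ⟨x * s * x⁻¹, ⟨s, hs, rfl⟩, ?_⟩
      simp [MulAut.smul_def]
  set S₁ := x • S₀ with hS₁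
  set H := (S' : Subgroup Y).comap f with hH
  have hS₁H : (S₁ : Subgroup X) ≤ H := by
    rw [hH, ← Subgroup.map_le_iff_le_comap, h1]
  have hPH : P ≤ H := by
    rw [hH, ← Subgroup.map_le_iff_le_comap]
    exact hPS
  have hP2 : IsPGroup 2 ↥(P.subgroupOf H) := hP.comap_subtype
  obtain ⟨Q, hQ⟩ := hP2.exists_le_sylow
  obtain ⟨o, ho⟩ := MulAction.exists_smul_eq H (S₁.subtype hS₁H) Q
  refine ⟨(o : X) • S₁, ?_, ?_⟩
  · intro p hp
    have h2 : (⟨p, hPH hp⟩ : H) ∈ Q := hQ (Subgroup.mem_subgroupOf.2 hp)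
    rw [← ho] at h2
    have h3 : (⟨p, hPH hp⟩ : H) ∈ ((o • S₁.subtype hS₁H : Sylow 2 H) : Subgroup H) := h2
    rw [Sylow.coe_subgroup_smul] at h3
    obtain ⟨s, hs, hs'⟩ := h3
    change p ∈ ((((o : X) • S₁ : Sylow 2 X)) : Subgroup X)
    rw [Sylow.coe_subgroup_smul]
    refine ⟨s, Subgroup.mem_subgroupOf.1 hs, ?_⟩
    exact congrArg Subtype.val hs'
  · have h2 : f (o : X) ∈ (S' : Subgroup Y) := o.2
    rw [Sylow.coe_subgroup_smul]
    ext w
    constructor
    · rintro ⟨_, ⟨s, hs, rfl⟩, rfl⟩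
      have h3 : f s ∈ (S' : Subgroup Y) := by rw [← h1]; exact ⟨s, hs, rfl⟩
      have h4 := (S' : Subgroup Y).mul_mem ((S' : Subgroup Y).mul_mem h2 h3) ((S' : Subgroup Y).inv_mem h2)
      simpa [MulAut.smul_def] using h4
    · intro hw
      have h3 : (f (o : X))⁻¹ * w * f (o : X) ∈ (S' : Subgroup Y) :=
        (S' : Subgroup Y).mul_mem ((S' : Subgroup Y).mul_mem ((S' : Subgroup Y).inv_mem h2) hw) h2
      rw [← h1] at h3
      obtain ⟨s, hs, hs'⟩ := h3
      refine ⟨o * s * (o : X)⁻¹, ⟨s, hs, rfl⟩, ?_⟩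
      rw [map_mul, map_mul, map_inv, hs']
      group

theorem CInt.quotient (hc : CInt G) (N : Subgroup G) [N.Normal] (hN : Odd (Nat.card N)) : CInt (G ⧸ N) := by
  intro S T hST
  set f := QuotientGroup.mk' N with hf
  have hfs : Function.Surjective f := QuotientGroup.mk'_surjective N
  set D := ((S : Subgroup (G ⧸ N)) ⊓ (T : Subgroup (G ⧸ N))).comap f with hD
  obtain ⟨P⟩ : Nonempty (Sylow 2 ↥D) := inferInstance
  -- the image of `P` is the intersection
  have hP2 : IsPGroup 2 ↥((P : Subgroup ↥D).map D.subtype) := P.isPGroup'.map _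
  have hDST : IsPGroup 2 ↥((S : Subgroup (G ⧸ N)) ⊓ (T : Subgroup (G ⧸ N))) := S.isPGroup'.to_le inf_le_left
  have hPle : ((P : Subgroup ↥D).map D.subtype).map f ≤ (S : Subgroup (G ⧸ N)) ⊓ (T : Subgroup (G ⧸ N)) := by
    rintro _ ⟨_, ⟨p, hp, rfl⟩, rfl⟩
    exact p.2
  obtain ⟨S₁, hS₁, hS₁'⟩ := exists_sylow_over f hfs S hP2 (hPle.trans inf_le_left)
  obtain ⟨T₁, hT₁, hT₁'⟩ := exists_sylow_over f hfs T hP2 (hPle.trans inf_le_right)
  have hne : S₁ ≠ T₁ := by
    rintro rfl
    exact hST (Sylow.ext (hS₁'.symm.trans hT₁'))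
  have hcy := isCyclic_of_le (hc S₁ T₁ hne) (le_inf hS₁ hT₁)
  -- surjectivity onto the intersection
  have hmap : ((P : Subgroup ↥D).map D.subtype).map f = (S : Subgroup (G ⧸ N)) ⊓ (T : Subgroup (G ⧸ N)) := by
    refine le_antisymm hPle fun w hw => ?_
    have hgs := MonoidHom.subgroupComap_surjective_of_surjective f
      ((S : Subgroup (G ⧸ N)) ⊓ (T : Subgroup (G ⧸ N))) hfs
    have htop := ((P.mapSurjective hgs).is_maximal' (hDST.of_equiv Subgroup.topEquiv.symm) le_top).symm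
    have h1 : (⟨w, hw⟩ : ↥((S : Subgroup (G ⧸ N)) ⊓ (T : Subgroup (G ⧸ N)))) ∈
        ((P.mapSurjective hgs).toSubgroup) := by rw [htop]; trivial
    obtain ⟨p, hp, hpw⟩ := h1
    exact ⟨p, ⟨p, hp, rfl⟩, congrArg Subtype.val hpw⟩
  rw [← hmap]
  exact isCyclic_of_surjective (f.subgroupMap ((P : Subgroup ↥D).map D.subtype))
    (f.subgroupMap_surjective _)

/-- The solvable radical of a nonsolvable group with cyclic Sylow 2-intersections. -/
theorem main (hns : ¬ Group.IsSolvable G) (hc : CInt G) (N : Subgroup G) [hNn : N.Normal]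
    (hN : Group.IsSolvable ↥N) :
    IsCyclic ↥(N.map (QuotientGroup.mk' (Cfsg.pPrimeCore 2 G))) ∧
      IsPGroup 2 ↥(N.map (QuotientGroup.mk' (Cfsg.pPrimeCore 2 G))) ∧
      N.map (QuotientGroup.mk' (Cfsg.pPrimeCore 2 G)) ≤ center (G ⧸ Cfsg.pPrimeCore 2 G) := by
  have hOodd : Odd (Nat.card ↥(Cfsg.pPrimeCore 2 G)) := H4.odd_card_pPrimeCore_two
  have hOs : Group.IsSolvable ↥(Cfsg.pPrimeCore 2 G) := FT.solvable_of_odd hOodd
  set Q := G ⧸ Cfsg.pPrimeCore 2 G with hQ
  have hQns : ¬ Group.IsSolvable Q := by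
    intro h
    exact hns ((Group.isSolvable_iff_subgroup_quotient (Cfsg.pPrimeCore 2 G)).2 ⟨hOs, h⟩)
  have hQc : CInt Q := hc.quotient _ hOodd
  have hQO : Cfsg.pPrimeCore 2 Q = ⊥ := Solv.pPrimeCore_quotient_pPrimeCore 2
  have hcy := isCyclic_pCore hQc hQns
  have hNn' : (N.map (QuotientGroup.mk' (Cfsg.pPrimeCore 2 G))).Normal :=
    hNn.map _ (QuotientGroup.mk'_surjective _)
  have hNs : Group.IsSolvable ↥(N.map (QuotientGroup.mk' (Cfsg.pPrimeCore 2 G))) :=
    Group.isSolvable_of_surjective ((QuotientGroup.mk' (Cfsg.pPrimeCore 2 G)).subgroupMap_surjective N)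
  have hle := le_pCore hcy hQO _ hNs
  refine ⟨isCyclic_of_le hcy hle, (Solv.pCore_isPGroup 2).to_le hle, hle.trans ?_⟩
  by_contra hnc
  exact bad_false ⟨hQc, hQns, hQO, hnc⟩

end GoodSec

end Cfsg.Agent.H31.CycInt
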